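import Mathlib

/-!
An automorphism of order prime to `p` of a `p`-group, `p` odd, fixing all elements of order `p` is trivial.
-/

namespace CfsgLib.OddOmega

open scoped commutatorElement

set_option linter.style.haveILetI false

universe u

/-- If all `x⁻¹ φ x` are fixed, of orders powers of `p`, then `φ` is trivial. -/
theorem eq_one_of_fixed_diff {Q : Type*} [Group Q] [Finite Q] {p : ℕ} [Fact p.Prime]
    (hQ : IsPGroup p Q) (φ : MulAut Q) (hφ : ¬ p ∣ orderOf φ)
    (h : ∀ x : Q, φ (x⁻¹ * φ x) = x⁻¹ * φ x) : φ = 1 := by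
  ext x
  set c := x⁻¹ * φ x with hc
  have hx : φ x = x * c := by rw [hc, mul_inv_cancel_left]
  have hcφ : φ c = c := h x
  clear_value c
  have hiter : ∀ k : ℕ, (φ ^ k) x = x * c ^ k := by
    intro k
    induction k with
    | zero => simp
    | succ k ih =>
      rw [pow_succ', MulAut.mul_apply, ih, map_mul, map_pow, hcφ, hx, mul_assoc, ← pow_succ']
  have h1 := hiter (orderOf φ)
  rw [pow_orderOf_eq_one, MulAut.one_apply, left_eq_mul] at h1
  obtain ⟨n, hn⟩ := hQ c
  have h2 : orderOf c = 1 := Nat.eq_one_of_dvd_coprimes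
    (((Fact.out : p.Prime).coprime_iff_not_dvd.mpr hφ).pow_left n)
    (orderOf_dvd_of_pow_eq_one hn) (orderOf_dvd_of_pow_eq_one h1)
  rw [orderOf_eq_one_iff] at h2
  rw [hx, h2, mul_one, MulAut.one_apply]

theorem mul_pow_of_central {Q : Type*} [Group Q] (x y c : Q) (hc : c ∈ Subgroup.center Q)
    (hyx : y * x = c * (x * y)) (n : ℕ) : (x * y) ^ n = c ^ (n.choose 2) * (x ^ n * y ^ n) := by
  have hcc : ∀ g : Q, Commute c g := fun g => (Subgroup.mem_center_iff.mp hc g).symm
  have h1 : ∀ m : ℕ, y ^ m * x = c ^ m * (x * y ^ m) := by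
    intro m
    induction m with
    | zero => simp
    | succ m ih =>
      calc y ^ (m + 1) * x = y * (y ^ m * x) := by rw [pow_succ', mul_assoc]
        _ = y * (c ^ m * (x * y ^ m)) := by rw [ih]
        _ = c ^ m * (y * x) * y ^ m := by
          rw [← mul_assoc, ← ((hcc y).pow_left m).eq]; group
        _ = c ^ m * (c * (x * y)) * y ^ m := by rw [hyx]
        _ = _ := by rw [pow_succ, pow_succ']; group
  induction n with
  | zero => simp
  | succ n ih =>
    calc (x * y) ^ (n + 1) = c ^ (n.choose 2) * (x ^ n * y ^ n) * (x * y) := by rw [pow_succ, ih]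
      _ = c ^ (n.choose 2) * (x ^ n * (y ^ n * x)) * y := by group
      _ = c ^ (n.choose 2) * (x ^ n * (c ^ n * (x * y ^ n))) * y := by rw [h1]
      _ = c ^ (n.choose 2) * (c ^ n * (x ^ n * (x * y ^ n))) * y := by
        rw [← mul_assoc (x ^ n) (c ^ n), ← ((hcc (x ^ n)).pow_left n).eq, mul_assoc (c ^ n)]
      _ = c ^ (n.choose 2 + n) * ((x ^ n * x) * (y ^ n * y)) := by rw [pow_add]; group
      _ = _ := by
        rw [← pow_succ, ← pow_succ, show (n + 1).choose 2 = n.choose 2 + n by
          rw [Nat.choose_succ_succ n 1, Nat.choose_one_right, add_comm]]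

/-- In a finite `p`-group `p`-th powers lie in the Frattini subgroup. -/
theorem pow_mem_frattini {Q : Type*} [Group Q] [Finite Q] {p : ℕ} [Fact p.Prime]
    (hQ : IsPGroup p Q) (g : Q) : g ^ p ∈ frattini Q := by
  show g ^ p ∈ Order.radical (Subgroup Q)
  simp only [Order.radical, Subgroup.mem_iInf]
  intro M hM
  haveI hnil : Group.IsNilpotent Q := hQ.isNilpotent
  haveI hMn : M.Normal := Subgroup.NormalizerCondition.normal_of_coatom M
    (Group.normalizerCondition_of_isNilpotent (G := Q)) hM
  obtain ⟨j, hj⟩ := IsPGroup.iff_card.mp (hQ.to_quotient M)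
  rcases Nat.eq_zero_or_pos j with rfl | hj0
  · exact absurd (Subgroup.index_eq_one.mp (show Nat.card (Q ⧸ M) = 1 by rw [hj, pow_zero])) hM.1
  obtain ⟨L, hL, -⟩ := Sylow.exists_subgroup_card_pow_prime_le p (n := 0) (m := 1)
    (G := Q ⧸ M) (by rw [hj]; exact pow_dvd_pow p hj0) ⊥ (by simp) (by omega)
  have hle : M < L.comap (QuotientGroup.mk' M) := by
    refine lt_of_le_of_ne (fun x hx => ?_) fun h => ?_
    · rw [Subgroup.mem_comap, QuotientGroup.mk'_apply, (QuotientGroup.eq_one_iff x).mpr hx]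
      exact L.one_mem
    · have hmap := congrArg (Subgroup.map (QuotientGroup.mk' M)) h
      rw [Subgroup.map_comap_eq_self_of_surjective (QuotientGroup.mk'_surjective M),
        QuotientGroup.map_mk'_self] at hmap
      rw [← hmap, Subgroup.card_bot, pow_one] at hL
      exact (Fact.out : p.Prime).ne_one hL.symm
  have : L = ⊤ := by
    rw [← Subgroup.map_comap_eq_self_of_surjective (QuotientGroup.mk'_surjective M) L, hM.2 _ hle,
      Subgroup.map_top_of_surjective _ (QuotientGroup.mk'_surjective M)]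
  rw [this, Subgroup.card_top, pow_one] at hL
  rw [← QuotientGroup.eq_one_iff, QuotientGroup.mk_pow, ← hL]
  exact pow_card_eq_one'

theorem eq_one_aux : ∀ (n : ℕ) (Q : Type u) [Group Q] [Finite Q], Nat.card Q = n →
    ∀ {p : ℕ} [Fact p.Prime], p ≠ 2 → IsPGroup p Q → ∀ φ : MulAut Q, ¬ p ∣ orderOf φ →
      (∀ x : Q, x ^ p = 1 → φ x = x) → φ = 1 := by
  intro n
  induction n using Nat.strong_induction_on with
  | _ n ih =>
    intro Q _ _ hn p _ hp hQ φ hφ hfix
    -- proper invariant subgroups are fixed pointwise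
    have hsub : ∀ H : Subgroup Q, H ≠ ⊤ → (∀ h ∈ H, φ h ∈ H) → ∀ h ∈ H, φ h = h := by
      intro H hH hinv h hh
      let f : H →* H :=
        { toFun := fun y => ⟨φ y, hinv y y.2⟩
          map_one' := Subtype.ext (map_one φ)
          map_mul' := fun a b => Subtype.ext (map_mul φ _ _) }
      have hinj : Function.Injective f := fun a b e => Subtype.ext (φ.injective (congrArg Subtype.val e))
      let ψ : MulAut H := MulEquiv.ofBijective f ⟨hinj, Finite.surjective_of_injective hinj⟩
      have hψk : ∀ k : ℕ, ∀ y : H, ((ψ ^ k) y : Q) = (φ ^ k) y := by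
        intro k
        induction k with
        | zero => intro y; rfl
        | succ k ihk =>
          intro y
          rw [pow_succ', pow_succ', MulAut.mul_apply, MulAut.mul_apply, ← ihk]
          rfl
      have hord : ψ ^ orderOf φ = 1 := by
        ext y
        rw [hψk, pow_orderOf_eq_one]
        rfl
      have hlt : Nat.card H < n := hn ▸ lt_of_le_of_ne (Subgroup.card_le_card_group H)
        (fun e => hH ((Subgroup.card_eq_iff_eq_top H).mp e))
      have h1 := ih _ hlt H rfl hp (hQ.to_subgroup H) ψ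
        (fun hd => hφ (hd.trans (orderOf_dvd_of_pow_eq_one hord)))
        (fun y hy => Subtype.ext (hfix y (by simpa using congrArg Subtype.val hy)))
      have h2 := congrArg (fun e : MulAut H => ((e ⟨h, hh⟩ : H) : Q)) h1
      exact h2
    by_cases hD : Subgroup.closure (Set.range fun x : Q => x⁻¹ * φ x) ≠ ⊤
    · refine eq_one_of_fixed_diff hQ φ hφ fun x => hsub _ hD ?_ _ (Subgroup.subset_closure ⟨x, rfl⟩)
      intro h hh
      have : h ∈ (Subgroup.closure (Set.range fun x : Q => x⁻¹ * φ x)).comap φ.toMonoidHom := by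
        refine (Subgroup.closure_le _).mpr ?_ hh
        rintro _ ⟨x, rfl⟩
        show φ (x⁻¹ * φ x) ∈ Subgroup.closure (Set.range fun x : Q => x⁻¹ * φ x)
        rw [map_mul, map_inv]
        exact Subgroup.subset_closure ⟨φ x, rfl⟩
      exact this
    push Not at hD
    -- the Frattini subgroup is fixed, hence central
    have hfr : frattini Q ≠ ⊤ ∨ Subsingleton Q := by
      rcases subsingleton_or_nontrivial Q with hs | hnt
      · exact Or.inr hs
      · refine Or.inl fun htop => ?_
        obtain ⟨M, hM, -⟩ := (eq_top_or_exists_le_coatom (⊥ : Subgroup Q)).resolve_left bot_ne_top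
        exact hM.1 (top_le_iff.mp (htop ▸ frattini_le_coatom hM))
    rcases hfr with hfr | hs
    swap
    · exact MulEquiv.ext fun x => Subsingleton.elim _ _
    have hΦfix : ∀ c ∈ frattini Q, φ c = c := by
      refine hsub _ hfr fun c hc => ?_
      have h := frattini_le_comap_frattini_of_surjective (φ := φ.toMonoidHom) φ.surjective hc
      exact h
    have hΦc : frattini Q ≤ Subgroup.center Q := by
      intro c hc
      rw [Subgroup.mem_center_iff]
      intro g
      have hg : g ∈ Subgroup.centralizer ({c} : Set Q) := by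
        refine (Subgroup.closure_le _).mpr ?_ (hD ▸ Subgroup.mem_top g)
        rintro _ ⟨x, rfl⟩
        rw [SetLike.mem_coe, Subgroup.mem_centralizer_singleton_iff]
        have hxc : x * c * x⁻¹ ∈ frattini Q := (inferInstance : (frattini Q).Normal).conj_mem c hc x
        have h2 := hΦfix _ hxc
        rw [map_mul, map_mul, map_inv, hΦfix c hc] at h2
        calc x⁻¹ * φ x * c = x⁻¹ * (φ x * c * (φ x)⁻¹) * φ x := by group
          _ = x⁻¹ * (x * c * x⁻¹) * φ x := by rw [h2]
          _ = c * (x⁻¹ * φ x) := by group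
      exact Subgroup.mem_centralizer_singleton_iff.mp hg
    have hcommΦ : ∀ a b : Q, a * b * a⁻¹ * b⁻¹ ∈ frattini Q := by
      intro a b
      show a * b * a⁻¹ * b⁻¹ ∈ Order.radical (Subgroup Q)
      simp only [Order.radical, Subgroup.mem_iInf]
      intro M hM
      haveI hnil : Group.IsNilpotent Q := hQ.isNilpotent
      haveI hMn : M.Normal := Subgroup.NormalizerCondition.normal_of_coatom M
        (Group.normalizerCondition_of_isNilpotent (G := Q)) hM
      obtain ⟨g, hg⟩ : ∃ g, g ∉ M := by
        by_contra hcon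
        push Not at hcon
        exact hM.1 (eq_top_iff.mpr fun g _ => hcon g)
      have hsup : M ⊔ Subgroup.zpowers g = ⊤ := hM.2 _ (left_lt_sup.mpr fun hle =>
        hg (hle (Subgroup.mem_zpowers g)))
      have hz : ∀ y : Q, ∃ i : ℤ, (y : Q ⧸ M) = (g : Q ⧸ M) ^ i := by
        intro y
        have hy : y ∈ ((Subgroup.zpowers g ⊔ M : Subgroup Q) : Set Q) := by
          rw [sup_comm, hsup]; exact Subgroup.mem_top y
        rw [Subgroup.mul_normal] at hy
        obtain ⟨u, ⟨i, rfl⟩, v, hv, rfl⟩ := hy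
        exact ⟨i, by rw [QuotientGroup.mk_mul_of_mem _ hv, QuotientGroup.mk_zpow]⟩
      obtain ⟨i, hi⟩ := hz a
      obtain ⟨j, hj⟩ := hz b
      rw [← QuotientGroup.eq_one_iff]
      simp only [QuotientGroup.mk_mul, QuotientGroup.mk_inv, hi, hj]
      group
    refine eq_one_of_fixed_diff hQ φ hφ fun x => hfix _ ?_
    set y := φ x
    set c := y * x⁻¹ * y⁻¹ * x⁻¹⁻¹ with hcdef
    have hcΦ : c ∈ frattini Q := hcommΦ _ _
    have hyx : y * x⁻¹ = c * (x⁻¹ * y) := by rw [hcdef]; group
    have hcp : c ^ p = 1 := by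
      have hcc : Commute c x⁻¹ := (Subgroup.mem_center_iff.mp (hΦc hcΦ) x⁻¹).symm
      have h1 : y * x⁻¹ * y⁻¹ = c * x⁻¹ := by rw [hcdef]; group
      have h2 : y * (x⁻¹) ^ p * y⁻¹ = c ^ p * (x⁻¹) ^ p := by
        rw [← conj_pow, h1, hcc.mul_pow]
      rw [Subgroup.mem_center_iff.mp (hΦc (pow_mem_frattini hQ x⁻¹)) y, mul_inv_cancel_right] at h2
      simpa using h2
    rw [mul_pow_of_central x⁻¹ y c (hΦc hcΦ) hyx p]
    obtain ⟨d, hd⟩ : p ∣ p.choose 2 := (Fact.out : p.Prime).dvd_choose_self two_ne_zero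
      (lt_of_le_of_ne (Fact.out : p.Prime).two_le (Ne.symm hp))
    rw [hd, pow_mul, hcp, one_pow, one_mul, inv_pow, ← map_pow, hΦfix _ (pow_mem_frattini hQ x),
      inv_mul_cancel]

/-- An automorphism of order prime to `p` fixing all elements of order `p` of a `p`-group, `p` odd, is
trivial. -/
theorem eq_one_of_fixes_omega {Q : Type u} [Group Q] [Finite Q] {p : ℕ} [Fact p.Prime] (hp : p ≠ 2)
    (hQ : IsPGroup p Q) (φ : MulAut Q) (hφ : ¬ p ∣ orderOf φ)
    (hfix : ∀ x : Q, x ^ p = 1 → φ x = x) : φ = 1 :=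
  eq_one_aux (Nat.card Q) Q rfl hp hQ φ hφ hfix

end CfsgLib.OddOmega
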