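import Mathlib
import Cfsg.Agent.Lib.OddOmega.Basic

/-!
An automorphism of order prime to `p` of a `p`-group fixing all elements with `x ^ e = 1`, where
`e = p` for odd `p` and `e = 4` for `p = 2`, is trivial.
-/

namespace CfsgLib.OddOmega

open scoped commutatorElement

set_option linter.style.haveILetI false

universe u

theorem eq_one_exp_aux : ∀ (n : ℕ) (Q : Type u) [Group Q] [Finite Q], Nat.card Q = n →
    ∀ {p : ℕ} [Fact p.Prime] (e : ℕ), p ∣ e → p ∣ e.choose 2 → IsPGroup p Q → ∀ φ : MulAut Q, ¬ p ∣ orderOf φ →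
      (∀ x : Q, x ^ e = 1 → φ x = x) → φ = 1 := by
  intro n
  induction n using Nat.strong_induction_on with
  | _ n ih =>
    intro Q _ _ hn p _ e hpe hch hQ φ hφ hfix
    -- proper invariant subgroups are fixed pointwise
    have hsub : ∀ H : Subgroup Q, H ≠ ⊤ → (∀ h ∈ H, φ h ∈ H) → ∀ h ∈ H, φ h = h := by
      intro H hH hinv h hh
      let f : H →* H :=
        { toFun := fun y => ⟨φ y, hinv y y.2⟩
          map_one' := Subtype.ext (map_one φ)
          map_mul' := fun a b => Subtype.ext (map_mul φ _ _) }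
      have hinj : Function.Injective f := fun a b e => Subtype.ext (φ.injective (congrArg Subtype.val e))
      let ψ : MulAut H := MulEquiv.ofBijective f ⟨hinj, Finite.surjective_of_injective hinj⟩
      have hψk : ∀ k : ℕ, ∀ y : H, ((ψ ^ k) y : Q) = (φ ^ k) y := by
        intro k
        induction k with
        | zero => intro y; rfl
        | succ k ihk =>
          intro y
          rw [pow_succ', pow_succ', MulAut.mul_apply, MulAut.mul_apply, ← ihk]
          rfl
      have hord : ψ ^ orderOf φ = 1 := by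
        ext y
        rw [hψk, pow_orderOf_eq_one]
        rfl
      have hlt : Nat.card H < n := hn ▸ lt_of_le_of_ne (Subgroup.card_le_card_group H)
        (fun e => hH ((Subgroup.card_eq_iff_eq_top H).mp e))
      have h1 := ih _ hlt H rfl e hpe hch (hQ.to_subgroup H) ψ
        (fun hd => hφ (hd.trans (orderOf_dvd_of_pow_eq_one hord)))
        (fun y hy => Subtype.ext (hfix y (by simpa using congrArg Subtype.val hy)))
      have h2 := congrArg (fun e : MulAut H => ((e ⟨h, hh⟩ : H) : Q)) h1
      exact h2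
    by_cases hD : Subgroup.closure (Set.range fun x : Q => x⁻¹ * φ x) ≠ ⊤
    · refine eq_one_of_fixed_diff hQ φ hφ fun x => hsub _ hD ?_ _ (Subgroup.subset_closure ⟨x, rfl⟩)
      intro h hh
      have : h ∈ (Subgroup.closure (Set.range fun x : Q => x⁻¹ * φ x)).comap φ.toMonoidHom := by
        refine (Subgroup.closure_le _).mpr ?_ hh
        rintro _ ⟨x, rfl⟩
        show φ (x⁻¹ * φ x) ∈ Subgroup.closure (Set.range fun x : Q => x⁻¹ * φ x)
        rw [map_mul, map_inv]
        exact Subgroup.subset_closure ⟨φ x, rfl⟩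
      exact this
    push Not at hD
    -- the Frattini subgroup is fixed, hence central
    have hfr : frattini Q ≠ ⊤ ∨ Subsingleton Q := by
      rcases subsingleton_or_nontrivial Q with hs | hnt
      · exact Or.inr hs
      · refine Or.inl fun htop => ?_
        obtain ⟨M, hM, -⟩ := (eq_top_or_exists_le_coatom (⊥ : Subgroup Q)).resolve_left bot_ne_top
        exact hM.1 (top_le_iff.mp (htop ▸ frattini_le_coatom hM))
    rcases hfr with hfr | hs
    swap
    · exact MulEquiv.ext fun x => Subsingleton.elim _ _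
    have hΦfix : ∀ c ∈ frattini Q, φ c = c := by
      refine hsub _ hfr fun c hc => ?_
      have h := frattini_le_comap_frattini_of_surjective (φ := φ.toMonoidHom) φ.surjective hc
      exact h
    have hΦc : frattini Q ≤ Subgroup.center Q := by
      intro c hc
      rw [Subgroup.mem_center_iff]
      intro g
      have hg : g ∈ Subgroup.centralizer ({c} : Set Q) := by
        refine (Subgroup.closure_le _).mpr ?_ (hD ▸ Subgroup.mem_top g)
        rintro _ ⟨x, rfl⟩
        rw [SetLike.mem_coe, Subgroup.mem_centralizer_singleton_iff]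
        have hxc : x * c * x⁻¹ ∈ frattini Q := (inferInstance : (frattini Q).Normal).conj_mem c hc x
        have h2 := hΦfix _ hxc
        rw [map_mul, map_mul, map_inv, hΦfix c hc] at h2
        calc x⁻¹ * φ x * c = x⁻¹ * (φ x * c * (φ x)⁻¹) * φ x := by group
          _ = x⁻¹ * (x * c * x⁻¹) * φ x := by rw [h2]
          _ = c * (x⁻¹ * φ x) := by group
      exact Subgroup.mem_centralizer_singleton_iff.mp hg
    have hcommΦ : ∀ a b : Q, a * b * a⁻¹ * b⁻¹ ∈ frattini Q := by
      intro a b
      show a * b * a⁻¹ * b⁻¹ ∈ Order.radical (Subgroup Q)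
      simp only [Order.radical, Subgroup.mem_iInf]
      intro M hM
      haveI hnil : Group.IsNilpotent Q := hQ.isNilpotent
      haveI hMn : M.Normal := Subgroup.NormalizerCondition.normal_of_coatom M
        (Group.normalizerCondition_of_isNilpotent (G := Q)) hM
      obtain ⟨g, hg⟩ : ∃ g, g ∉ M := by
        by_contra hcon
        push Not at hcon
        exact hM.1 (eq_top_iff.mpr fun g _ => hcon g)
      have hsup : M ⊔ Subgroup.zpowers g = ⊤ := hM.2 _ (left_lt_sup.mpr fun hle =>
        hg (hle (Subgroup.mem_zpowers g)))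
      have hz : ∀ y : Q, ∃ i : ℤ, (y : Q ⧸ M) = (g : Q ⧸ M) ^ i := by
        intro y
        have hy : y ∈ ((Subgroup.zpowers g ⊔ M : Subgroup Q) : Set Q) := by
          rw [sup_comm, hsup]; exact Subgroup.mem_top y
        rw [Subgroup.mul_normal] at hy
        obtain ⟨u, ⟨i, rfl⟩, v, hv, rfl⟩ := hy
        exact ⟨i, by rw [QuotientGroup.mk_mul_of_mem _ hv, QuotientGroup.mk_zpow]⟩
      obtain ⟨i, hi⟩ := hz a
      obtain ⟨j, hj⟩ := hz b
      rw [← QuotientGroup.eq_one_iff]
      simp only [QuotientGroup.mk_mul, QuotientGroup.mk_inv, hi, hj]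
      group
    refine eq_one_of_fixed_diff hQ φ hφ fun x => hfix _ ?_
    set y := φ x
    set c := y * x⁻¹ * y⁻¹ * x⁻¹⁻¹ with hcdef
    have hcΦ : c ∈ frattini Q := hcommΦ _ _
    have hyx : y * x⁻¹ = c * (x⁻¹ * y) := by rw [hcdef]; group
    have hcp : c ^ p = 1 := by
      have hcc : Commute c x⁻¹ := (Subgroup.mem_center_iff.mp (hΦc hcΦ) x⁻¹).symm
      have h1 : y * x⁻¹ * y⁻¹ = c * x⁻¹ := by rw [hcdef]; group
      have h2 : y * (x⁻¹) ^ p * y⁻¹ = c ^ p * (x⁻¹) ^ p := by
        rw [← conj_pow, h1, hcc.mul_pow]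
      rw [Subgroup.mem_center_iff.mp (hΦc (pow_mem_frattini hQ x⁻¹)) y, mul_inv_cancel_right] at h2
      simpa using h2
    rw [mul_pow_of_central x⁻¹ y c (hΦc hcΦ) hyx e]
    obtain ⟨d, hd⟩ := hch
    obtain ⟨k, hk⟩ := hpe
    rw [hd, pow_mul, hcp, one_pow, one_mul, hk, pow_mul, pow_mul, inv_pow, ← map_pow,
      hΦfix _ (pow_mem_frattini hQ x), inv_pow, inv_mul_cancel]

/-- The exponent deciding triviality of `p'`-automorphisms. -/
def omegaExp (p : ℕ) : ℕ := if p = 2 then 4 else p

theorem dvd_omegaExp (p : ℕ) : p ∣ omegaExp p := by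
  unfold omegaExp
  split
  · subst_vars; norm_num
  · exact dvd_rfl

theorem dvd_omegaExp_choose (p : ℕ) [Fact p.Prime] : p ∣ (omegaExp p).choose 2 := by
  unfold omegaExp
  split
  · subst_vars; decide
  · rename_i h
    exact (Fact.out : p.Prime).dvd_choose_self two_ne_zero
      (lt_of_le_of_ne (Fact.out : p.Prime).two_le (Ne.symm h))

/-- An automorphism of order prime to `p` fixing all elements of order `p` (and of order `4` if
`p = 2`) of a `p`-group is trivial. -/
theorem eq_one_of_fixes_exp {Q : Type u} [Group Q] [Finite Q] {p : ℕ} [Fact p.Prime]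
    (hQ : IsPGroup p Q) (φ : MulAut Q) (hφ : ¬ p ∣ orderOf φ)
    (hfix : ∀ x : Q, x ^ omegaExp p = 1 → φ x = x) : φ = 1 :=
  eq_one_exp_aux (Nat.card Q) Q rfl (omegaExp p) (dvd_omegaExp p) (dvd_omegaExp_choose p) hQ φ hφ
    hfix

end CfsgLib.OddOmega
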